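import Mathlib
import Cfsg.Prelude.Def_GeometricClasses
import Cfsg.Agent.Helper3.S5702REDUCE

set_option autoImplicit false

/-! # S5692 / S5694 (orthogonal decomposition stabilisers `O_k(q) wr S_t` in `Ω_n(q)`, `n` even), chapter TRANSPORT
(designer helper3): the BLOCK MODEL.

`Qblk t q` is the orthogonal sum of `t` copies of a quadratic form `q` on `F^k`, on the index type `Fin t × Fin k`;
`Dblk F t k i` is the `i`-th coordinate block; `binj i y` is the vector `y` placed in block `i`.
The chapter shows: every `(Q, D)` with `IsOrthogonalMDecomposition Q k D` is isometric to a block model, and the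
maximality statement transports. -/

namespace Cfsg.Agent.OC2P

open Matrix

variable {F : Type*} [Field F] {t k : ℕ}

/-- the orthogonal sum of `t` copies of `q` -/
def Qblk (t : ℕ) {k : ℕ} (q : (Fin k → F) → F) (x : Fin t × Fin k → F) : F :=
  ∑ i : Fin t, q (fun j => x (i, j))

/-- the `i`-th coordinate block -/
def Dblk (F : Type*) [Field F] (t k : ℕ) (i : Fin t) : Submodule F (Fin t × Fin k → F) where
  carrier := {x | ∀ (i' : Fin t) (j : Fin k), i' ≠ i → x (i', j) = 0}
  zero_mem' := fun _ _ _ => rfl
  add_mem' := by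
    intro x y hx hy i' j hi
    rw [Pi.add_apply, hx i' j hi, hy i' j hi, add_zero]
  smul_mem' := by
    intro c x hx i' j hi
    rw [Pi.smul_apply, hx i' j hi, smul_zero]

theorem mem_Dblk {i : Fin t} {x : Fin t × Fin k → F} :
    x ∈ Dblk F t k i ↔ ∀ (i' : Fin t) (j : Fin k), i' ≠ i → x (i', j) = 0 := Iff.rfl

/-- the vector `y` placed in block `i` -/
def binj (i : Fin t) (y : Fin k → F) : Fin t × Fin k → F := fun p => if p.1 = i then y p.2 else 0

/-- the `i`-th component of a vector -/
def bproj (i : Fin t) (x : Fin t × Fin k → F) : Fin k → F := fun j => x (i, j)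

theorem binj_mem (i : Fin t) (y : Fin k → F) : binj i y ∈ Dblk F t k i := by
  intro i' j hi
  simp [binj, hi]

theorem bproj_binj (i : Fin t) (y : Fin k → F) : bproj i (binj i y) = y := by
  funext j
  simp [bproj, binj]

theorem bproj_binj_ne {i i' : Fin t} (h : i' ≠ i) (y : Fin k → F) : bproj i' (binj i y) = 0 := by
  funext j
  simp [bproj, binj, h]

theorem Qblk_eq (q : (Fin k → F) → F) (x : Fin t × Fin k → F) :
    Qblk t q x = ∑ i : Fin t, q (bproj i x) := rfl

end Cfsg.Agent.OC2P
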